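import Groth.Agent.FrobSplit29.Power
import Groth.Agent.CurveCohLib.Proper
import Groth.Agent.H23.PicMul
import Groth.Agent.QCoh.OpenSub
import Groth.Agent.Lib.CurveDeg

/-!
Cohomology of invertible modules on a Frobenius split scheme.
-/

universe u

open CategoryTheory AlgebraicGeometry TopologicalSpace Opposite

namespace Groth.Agent.FrobSplit29

open scoped Groth.Agent.H23.PicMul

variable (p : ℕ) [Fact p.Prime] {k : Type u} [Field k] [CharP k p] {X : Scheme.{u}}
  [X.Over (Spec (CommRingCat.of k))]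

include k in
theorem natCast_eq_zero (U : X.Opens) : (p : Γ(X, U)) = 0 := by
  have h := congrArg (Coh.toGlobal (X ↘ Spec (CommRingCat.of k))) (CharP.cast_eq_zero k p)
  rw [map_natCast, map_zero] at h
  have h' := congrArg (AModX.resR (le_top : U ≤ (⊤ : X.Opens))) (show (p : Γ(X, ⊤)) = 0 from h)
  rwa [map_natCast, map_zero] at h'

variable {p}
  {φ : Coh.toAb (Coh.structureModule X) ⟶ Coh.toAb (Coh.structureModule X)}
  (hφ : ∀ (U : X.Opens) (t : Γ(X, U)), φ.hom.app (op U) t = t ^ p)
  {s : Coh.toAb (Coh.structureModule X) ⟶ Coh.toAb (Coh.structureModule X)}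
  (hs : φ ≫ s = 𝟙 _)
  (hlin : ∀ (U : X.Opens) (a b : Γ(X, U)),
      s.hom.app (op U) (a ^ p * b) = a * @id Γ(X, U) (s.hom.app (op U) b))

include hφ hs in
theorem sW_pow (W : X.Opens) (a : Γ(X, W)) : sW s W (a ^ p) = a := by
  have h := congrArg (fun ψ : Coh.toAb (Coh.structureModule X) ⟶ Coh.toAb (Coh.structureModule X) =>
    ψ.hom.app (op W) a) hs
  change s.hom.app (op W) (φ.hom.app (op W) a) = a at h
  rw [hφ] at h
  exact h

include k hφ hs hlin in
theorem injective_map {M : X.Modules} (hM : PicF.IsInvertible M) (n : ℕ) :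
    Function.Injective (Sheaf.H.map (phi p hM (natCast_eq_zero p (k := k))) n) := by
  refine Function.LeftInverse.injective (g := Sheaf.H.map (psi (s := s) (p := p) hlin hM) n) fun x => ?_
  rw [← Sheaf.H.map_comp_apply, phi_psi hlin hM _ (sW_pow hφ hs), Sheaf.H.map_id_apply]

theorem map_smul' {M : X.Modules} (hM : PicF.IsInvertible M) (n : ℕ) (c : k) (x : Coh.HH X M n) :
    Sheaf.H.map (phi p hM (natCast_eq_zero p (k := k))) n (c • x) =
      c ^ p • (show Coh.HH X (CohB1.tensorPow M p) n from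
        Sheaf.H.map (phi p hM (natCast_eq_zero p (k := k))) n x) := by
  show Sheaf.H.map _ n (Sheaf.H.map (Coh.smulAb M (Coh.toGlobal (X ↘ Spec (CommRingCat.of k)) c)) n x) =
    Sheaf.H.map (Coh.smulAb _ (Coh.toGlobal (X ↘ Spec (CommRingCat.of k)) (c ^ p))) n (Sheaf.H.map _ n x)
  rw [← Sheaf.H.map_comp_apply, ← Sheaf.H.map_comp_apply, phi_smulAb, map_pow]

include hφ hs hlin in
theorem finrank_le [PerfectRing k p] [IsProper (X ↘ Spec (CommRingCat.of k))] {M : X.Modules}
    (hM : PicF.IsInvertible M) (n : ℕ) :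
    Module.finrank k (Coh.HH X M n) ≤ Module.finrank k (Coh.HH X (CohB1.tensorPow M p) n) := by
  haveI : IsLocallyNoetherian X := LocallyOfFiniteType.isLocallyNoetherian (X ↘ Spec (CommRingCat.of k))
  have hT := H23.PicMul.isInvertible_tensorPow hM p
  haveI := CurveCohLib.finite_HH (k := k) (CurveDeg.isCoh_of_isInvertible hM) n
  haveI := CurveCohLib.finite_HH (k := k) (CurveDeg.isCoh_of_isInvertible hT) n
  let b := Module.finBasis k (Coh.HH X M n)
  let j : Coh.HH X M n →+ Coh.HH X (CohB1.tensorPow M p) n :=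
    Sheaf.H.map (phi p hM (natCast_eq_zero p (k := k))) n
  have hb := b.linearIndependent.map_of_surjective_injectiveₛ (fun c : k => c ^ p) j
    (bijective_frobenius k p).2 (injective_map (k := k) hφ hs hlin hM n) (map_smul' hM n)
  simpa using hb.fintype_card_le_finrank

include k hφ hs hlin in
theorem subsingleton_of_pow {M : X.Modules} (hM : PicF.IsInvertible M) (n : ℕ) :
    ∀ e : ℕ, Subsingleton (Coh.HH X (CohB1.tensorPow M (p ^ e)) n) → Subsingleton (Coh.HH X M n)
  | 0, h => by
    obtain ⟨i⟩ : Nonempty (CohB1.tensorPow M (p ^ 0) ≅ M) := by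
      rw [← H23.PicMul.cl_eq_iff, H23.PicMul.cl_tensorPow, pow_zero, pow_one]
    exact QCoh.subsingleton_HH_of_iso i n h
  | e + 1, h => by
    refine subsingleton_of_pow hM n e ?_
    obtain ⟨i⟩ : Nonempty (CohB1.tensorPow M (p ^ (e + 1)) ≅
        CohB1.tensorPow (CohB1.tensorPow M (p ^ e)) p) := by
      rw [← H23.PicMul.cl_eq_iff, H23.PicMul.cl_tensorPow, H23.PicMul.cl_tensorPow, H23.PicMul.cl_tensorPow,
        ← pow_mul, pow_succ]
    haveI := QCoh.subsingleton_HH_of_iso i n h
    exact (injective_map (k := k) hφ hs hlin (H23.PicMul.isInvertible_tensorPow hM (p ^ e)) n).subsingleton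

end Groth.Agent.FrobSplit29
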