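import Groth.Agent.InvX.Tensor
import Groth.Prelude.Def_Coh
import Groth.Prelude.Def_CohB1
import Mathlib.Algebra.CharP.Lemmas

/-!
The `p`-th power map on invertible modules and its left inverse coming from a Frobenius splitting.
-/

universe u

open CategoryTheory AlgebraicGeometry TopologicalSpace Opposite

namespace Groth.Agent.FrobSplit29

open AModX InvX

variable {X : Scheme.{u}} {M : X.Modules}

/-- Powers of a section. -/
noncomputable def powT {U : X.Opens} (a : Γ(M, U)) : ∀ n : ℕ, Γ(CohB1.tensorPow M n, U)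
  | 0 => (show Γ(Coh.structureModule X, U) from (1 : Γ(X, U)))
  | n + 1 => InvX.tmul (powT a n) a

theorem powT_res {U V : X.Opens} (h : V ≤ U) (a : Γ(M, U)) :
    ∀ n, res (CohB1.tensorPow M n) h (powT a n) = powT (res M h a) n
  | 0 => map_one (resR h)
  | n + 1 => (InvX.res_tmul h (powT a n) a).trans (congrArg (InvX.tmul · _) (powT_res h a n))

theorem powT_smul {U : X.Opens} (r : Γ(X, U)) (a : Γ(M, U)) :
    ∀ n, powT (r • a) n = r ^ n • powT a n
  | 0 => by rw [pow_zero, one_smul]; rfl
  | n + 1 => by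
    show InvX.tmul (powT (r • a) n) (r • a) = r ^ (n + 1) • InvX.tmul (powT a n) a
    rw [powT_smul r a n, InvX.tmul_smul_left, InvX.tmul_smul_right, ← mul_smul, pow_succ]

theorem isFrame_powT {U : X.Opens} {e : Γ(M, U)} (he : IsFrame e) : ∀ n, IsFrame (powT e n)
  | 0 => InvX.isFrame_one U
  | n + 1 => InvX.isFrame_tmul (isFrame_powT he n) he

theorem exists_frame_res (hM : PicF.IsInvertible M) {V : X.Opens} {x : X} (hx : x ∈ V) :
    ∃ (W : X.Opens) (_ : W ≤ V) (_ : x ∈ W) (e : Γ(M, W)), IsFrame e := by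
  obtain ⟨U, hxU, e, he⟩ := InvX.exists_frame hM x
  exact ⟨V ⊓ U, inf_le_left, ⟨hx, hxU⟩, _, he.res inf_le_right⟩

variable (p : ℕ) [Fact p.Prime]

theorem powT_add (hM : PicF.IsInvertible M) (hp : ∀ U : X.Opens, (p : Γ(X, U)) = 0) {U : X.Opens}
    (a b : Γ(M, U)) : powT (a + b) p = powT a p + powT b p := by
  refine eq_of_locally _ _ fun x hx => ?_
  obtain ⟨W, hW, hxW, e, he⟩ := exists_frame_res hM hx
  refine ⟨W, hW, hxW, ?_⟩
  obtain ⟨r, hr⟩ := he.exists_coord le_rfl (res M hW a)
  obtain ⟨r', hr'⟩ := he.exists_coord le_rfl (res M hW b)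
  rw [res_self] at hr hr'
  have hadd : (r + r') ^ p = r ^ p + r' ^ p := by
    rcases subsingleton_or_nontrivial Γ(X, W) with hR | hR
    · exact Subsingleton.elim _ _
    · have : CharP Γ(X, W) p := (CharP.charP_iff_prime_eq_zero Fact.out).2 (hp W)
      exact add_pow_char (x := r) (y := r') (p := p)
  rw [map_add, powT_res, powT_res, powT_res, map_add, hr, hr', ← add_smul, powT_smul, powT_smul, powT_smul,
    hadd, add_smul]

/-- The `p`-th power map. -/
noncomputable def phi (hM : PicF.IsInvertible M) (hp : ∀ U : X.Opens, (p : Γ(X, U)) = 0) :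
    Coh.toAb M ⟶ Coh.toAb (CohB1.tensorPow M p) :=
  ⟨{ app := fun U => AddCommGrpCat.ofHom (AddMonoidHom.mk' (fun a : Γ(M, U.unop) => powT a p)
       (powT_add p hM hp))
     naturality := fun U V i => by
       ext a
       exact (powT_res i.unop.le a p).symm }⟩

theorem phi_smulAb (hM : PicF.IsInvertible M) (hp : ∀ U : X.Opens, (p : Γ(X, U)) = 0) (r : Coh.Γtop X) :
    Coh.smulAb M r ≫ phi p hM hp = phi p hM hp ≫ Coh.smulAb (CohB1.tensorPow M p) (r ^ p) := by
  ext U a
  show powT ((show Γ(X, U.unop) from Coh.resTop X U r) • (show Γ(M, U.unop) from a)) p =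
    (show Γ(X, U.unop) from Coh.resTop X U (r ^ p)) • powT (show Γ(M, U.unop) from a) p
  rw [powT_smul, map_pow]
  rfl

variable (s : Coh.toAb (Coh.structureModule X) ⟶ Coh.toAb (Coh.structureModule X))

/-- The splitting on functions. -/
noncomputable def sW (W : X.Opens) : Γ(X, W) →+ Γ(X, W) := (s.hom.app (op W)).hom

theorem sW_res {W W' : X.Opens} (h : W' ≤ W) (b : Γ(X, W)) : sW s W' (resR h b) = resR h (sW s W b) :=
  ConcreteCategory.congr_hom (s.hom.naturality (homOfLE h).op) b

/-- `v` is the image of `w` under the splitting. -/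
def RelS {V : X.Opens} (w : Γ(CohB1.tensorPow M p, V)) (v : Γ(M, V)) : Prop :=
  ∀ (W : X.Opens) (h : W ≤ V) (e : Γ(M, W)) (b : Γ(X, W)), IsFrame e →
    res (CohB1.tensorPow M p) h w = b • powT e p → res M h v = sW s W b • e

variable {p s}

theorem RelS.unique (hM : PicF.IsInvertible M) {V : X.Opens} {w : Γ(CohB1.tensorPow M p, V)}
    {v v' : Γ(M, V)} (hv : RelS p s w v) (hv' : RelS p s w v') : v = v' := by
  refine eq_of_locally _ _ fun x hx => ?_
  obtain ⟨W, hW, hxW, e, he⟩ := exists_frame_res hM hx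
  obtain ⟨b, hb⟩ := (isFrame_powT he p).exists_coord le_rfl (res _ hW w)
  rw [res_self] at hb
  exact ⟨W, hW, hxW, (hv W hW e b he hb).trans (hv' W hW e b he hb).symm⟩

theorem RelS.res {V V' : X.Opens} (i : V' ≤ V) {w : Γ(CohB1.tensorPow M p, V)} {v : Γ(M, V)}
    (hv : RelS p s w v) : RelS p s (AModX.res _ i w) (AModX.res M i v) := fun W h e b he hb => by
  rw [res_res] at hb ⊢
  exact hv W _ e b he hb

theorem RelS.add {V : X.Opens} {w w' : Γ(CohB1.tensorPow M p, V)} {v v' : Γ(M, V)}
    (hv : RelS p s w v) (hv' : RelS p s w' v') : RelS p s (w + w') (v + v') := fun W h e b he hb => by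
  obtain ⟨c, hc⟩ := (isFrame_powT he p).exists_coord le_rfl (AModX.res _ h w)
  obtain ⟨c', hc'⟩ := (isFrame_powT he p).exists_coord le_rfl (AModX.res _ h w')
  rw [res_self] at hc hc'
  have hb' : b = c + c' := by
    refine (isFrame_powT he p).coord_unique le_rfl ?_
    rw [res_self, ← hb, map_add, hc, hc', add_smul]
  rw [map_add, hv W h e c he hc, hv' W h e c' he hc', hb', map_add, add_smul]

variable (hlin : ∀ (W : X.Opens) (a b : Γ(X, W)), sW s W (a ^ p * b) = a * sW s W b)

include hlin in
theorem sW_change {W : X.Opens} {e e' : Γ(M, W)} (he : IsFrame e) {w : Γ(CohB1.tensorPow M p, W)}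
    {b b' : Γ(X, W)} (he' : IsFrame e') (hb : w = b • powT e p) (hb' : w = b' • powT e' p) :
    sW s W b • e = sW s W b' • e' := by
  obtain ⟨u, hu⟩ := he.exists_coord le_rfl e'
  rw [res_self] at hu
  have h1 : b = u ^ p * b' := by
    refine (isFrame_powT he p).coord_unique le_rfl ?_
    rw [res_self, ← hb, hb', hu, powT_smul, ← mul_smul, mul_comm]
  rw [h1, hlin, hu, ← mul_smul, mul_comm]

include hlin in
theorem exists_relS (hM : PicF.IsInvertible M) {V : X.Opens} (w : Γ(CohB1.tensorPow M p, V)) :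
    ∃ v : Γ(M, V), RelS p s w v := by
  choose W hW hxW e he using fun x : V => exists_frame_res hM x.2
  choose b hb using fun x : V => (isFrame_powT (he x) p).exists_coord le_rfl (res _ (hW x) w)
  simp only [res_self] at hb
  obtain ⟨v, hv, -⟩ := existsUnique_glue (M := M) (V := V) W hW (fun x hx => ⟨⟨x, hx⟩, hxW ⟨x, hx⟩⟩)
    (fun x => sW s (W x) (b x) • e x) fun x y => by
      rw [res_smul, res_smul, ← sW_res, ← sW_res]
      refine sW_change hlin ((he x).res inf_le_left)
        (w := res _ (inf_le_left.trans (hW x) : W x ⊓ W y ≤ V) w) ((he y).res inf_le_right) ?_ ?_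
      · rw [← res_res (hW x) inf_le_left, hb x, res_smul, powT_res]
      · rw [show res (CohB1.tensorPow M p) (inf_le_left.trans (hW x) : W x ⊓ W y ≤ V) w =
            res _ inf_le_right (res _ (hW y) w) from (res_res _ _ w).symm, hb y, res_smul, powT_res]
  refine ⟨v, fun W' h e' b' he' hb' => ?_⟩
  refine eq_of_locally _ _ fun x hx => ?_
  let z : V := ⟨x, h hx⟩
  refine ⟨W' ⊓ W z, inf_le_left, ⟨hx, hxW z⟩, ?_⟩
  rw [res_res, show res M (inf_le_left.trans h : W' ⊓ W z ≤ V) v = res M inf_le_right (res M (hW z) v) from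
    (res_res _ _ v).symm, hv z, res_smul, res_smul, ← sW_res, ← sW_res]
  refine sW_change hlin ((he z).res inf_le_right)
    (w := res _ (inf_le_left.trans h : W' ⊓ W z ≤ V) w) (he'.res inf_le_left) ?_ ?_
  · rw [show res (CohB1.tensorPow M p) (inf_le_left.trans h : W' ⊓ W z ≤ V) w =
      res _ inf_le_right (res _ (hW z) w) from (res_res _ _ w).symm, hb z, res_smul, powT_res]
  · rw [← res_res h inf_le_left, hb', res_smul, powT_res]

/-- The splitting on an invertible module. -/
noncomputable def psi (hM : PicF.IsInvertible M) : Coh.toAb (CohB1.tensorPow M p) ⟶ Coh.toAb M :=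
  ⟨{ app := fun U => AddCommGrpCat.ofHom (AddMonoidHom.mk'
       (fun w : Γ(CohB1.tensorPow M p, U.unop) => (exists_relS hlin hM w).choose) fun w w' =>
         RelS.unique hM (exists_relS hlin hM (w + w')).choose_spec
           ((exists_relS hlin hM w).choose_spec.add (exists_relS hlin hM w').choose_spec))
     naturality := fun U V i => by
       ext w
       exact RelS.unique hM (exists_relS hlin hM (res (CohB1.tensorPow M p) i.unop.le w)).choose_spec
         ((exists_relS hlin hM w).choose_spec.res i.unop.le) }⟩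

theorem phi_psi (hM : PicF.IsInvertible M) (hp : ∀ U : X.Opens, (p : Γ(X, U)) = 0)
    (hs : ∀ (W : X.Opens) (a : Γ(X, W)), sW s W (a ^ p) = a) :
    phi p hM hp ≫ psi hlin hM = 𝟙 _ := by
  ext U a
  show (exists_relS hlin hM (powT (show Γ(M, U.unop) from a) p)).choose = a
  refine RelS.unique hM (exists_relS hlin hM (powT (show Γ(M, U.unop) from a) p)).choose_spec
    fun W h e b he hb => ?_
  obtain ⟨r, hr⟩ := he.exists_coord le_rfl (res M h a)
  rw [res_self] at hr
  have : b = r ^ p := by
    refine (isFrame_powT he p).coord_unique le_rfl ?_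
    rw [res_self, ← hb, powT_res, hr, powT_smul]
  rw [this, hs, ← hr]

end Groth.Agent.FrobSplit29
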